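import Mathlib
import Cfsg.Agent.Comp.NetWord

/-! Networks for four linear maps of the space of dimension 18 over the field with two elements. -/

set_option autoImplicit false
set_option maxRecDepth 100000

namespace Cfsg.Agent.LeU.J3
open Cfsg.Agent.Comp

/-- the points with bit `k` set -/
noncomputable def pl (k : Nat) : Nat := plane (nat_lit 262144) (nat_lit 18) k

/-- the points with bit `i` set and bit `j` clear -/
noncomputable def mk (i j : Nat) : Nat :=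
  Nat.land (pl i) (Nat.xor (pl j) (ivl (nat_lit 0) (nat_lit 262144)))

noncomputable def n0 : Net :=
(Net.cons (mk (nat_lit 1) (nat_lit 10)) (nat_lit 1022)
(Net.cons (mk (nat_lit 2) (nat_lit 11)) (nat_lit 2044)
(Net.cons (mk (nat_lit 3) (nat_lit 12)) (nat_lit 4088)
(Net.cons (mk (nat_lit 4) (nat_lit 13)) (nat_lit 8192)
(Net.cons (mk (nat_lit 5) (nat_lit 14)) (nat_lit 16384)
(Net.cons (mk (nat_lit 6) (nat_lit 15)) (nat_lit 32704)
(Net.cons (mk (nat_lit 7) (nat_lit 16)) (nat_lit 65536)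
(Net.cons (mk (nat_lit 8) (nat_lit 17)) (nat_lit 131072)
(Net.cons (mk (nat_lit 10) (nat_lit 1)) (nat_lit 2)
(Net.cons (mk (nat_lit 11) (nat_lit 2)) (nat_lit 4)
(Net.cons (mk (nat_lit 12) (nat_lit 3)) (nat_lit 8)
(Net.cons (mk (nat_lit 13) (nat_lit 4)) (nat_lit 16)
(Net.cons (mk (nat_lit 14) (nat_lit 5)) (nat_lit 32)
(Net.cons (mk (nat_lit 15) (nat_lit 6)) (nat_lit 64)
(Net.cons (mk (nat_lit 16) (nat_lit 7)) (nat_lit 128)
(Net.cons (mk (nat_lit 17) (nat_lit 8)) (nat_lit 256)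
Net.nil))))))))))))))))

noncomputable def n1 : Net :=
(Net.cons (mk (nat_lit 0) (nat_lit 3)) (nat_lit 7)
(Net.cons (mk (nat_lit 1) (nat_lit 4)) (nat_lit 14)
(Net.cons (mk (nat_lit 2) (nat_lit 5)) (nat_lit 28)
(Net.cons (mk (nat_lit 3) (nat_lit 6)) (nat_lit 56)
(Net.cons (mk (nat_lit 4) (nat_lit 16)) (nat_lit 65520)
(Net.cons (mk (nat_lit 5) (nat_lit 17)) (nat_lit 131040)
(Net.cons (mk (nat_lit 5) (nat_lit 8)) (nat_lit 256)
(Net.cons (mk (nat_lit 7) (nat_lit 16)) (nat_lit 65408)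
(Net.cons (mk (nat_lit 8) (nat_lit 17)) (nat_lit 130816)
(Net.cons (mk (nat_lit 9) (nat_lit 12)) (nat_lit 3584)
(Net.cons (mk (nat_lit 10) (nat_lit 13)) (nat_lit 7168)
(Net.cons (mk (nat_lit 11) (nat_lit 14)) (nat_lit 14336)
(Net.cons (mk (nat_lit 12) (nat_lit 15)) (nat_lit 28672)
(Net.cons (mk (nat_lit 13) (nat_lit 16)) (nat_lit 57344)
(Net.cons (mk (nat_lit 13) (nat_lit 4)) (nat_lit 16)
(Net.cons (mk (nat_lit 14) (nat_lit 17)) (nat_lit 114688)
Net.nil))))))))))))))))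

noncomputable def n2 : Net :=
(Net.cons (mk (nat_lit 1) (nat_lit 7)) (nat_lit 126)
(Net.cons (mk (nat_lit 2) (nat_lit 5)) (nat_lit 28)
(Net.cons (mk (nat_lit 3) (nat_lit 4)) (nat_lit 8)
(Net.cons (mk (nat_lit 4) (nat_lit 5)) (nat_lit 16)
(Net.cons (mk (nat_lit 5) (nat_lit 6)) (nat_lit 32)
(Net.cons (mk (nat_lit 6) (nat_lit 8)) (nat_lit 192)
(Net.cons (mk (nat_lit 7) (nat_lit 8)) (nat_lit 128)
(Net.cons (mk (nat_lit 10) (nat_lit 16)) (nat_lit 64512)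
(Net.cons (mk (nat_lit 11) (nat_lit 14)) (nat_lit 14336)
(Net.cons (mk (nat_lit 12) (nat_lit 13)) (nat_lit 4096)
(Net.cons (mk (nat_lit 13) (nat_lit 14)) (nat_lit 8192)
(Net.cons (mk (nat_lit 14) (nat_lit 15)) (nat_lit 16384)
(Net.cons (mk (nat_lit 15) (nat_lit 17)) (nat_lit 98304)
(Net.cons (mk (nat_lit 16) (nat_lit 17)) (nat_lit 65536)
Net.nil))))))))))))))

noncomputable def n3 : Net :=
(Net.cons (mk (nat_lit 1) (nat_lit 3)) (nat_lit 8)
(Net.cons (mk (nat_lit 1) (nat_lit 6)) (nat_lit 64)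
(Net.cons (mk (nat_lit 2) (nat_lit 3)) (nat_lit 8)
(Net.cons (mk (nat_lit 2) (nat_lit 6)) (nat_lit 64)
(Net.cons (mk (nat_lit 3) (nat_lit 6)) (nat_lit 56)
(Net.cons (mk (nat_lit 3) (nat_lit 1)) (nat_lit 2)
(Net.cons (mk (nat_lit 3) (nat_lit 2)) (nat_lit 4)
(Net.cons (mk (nat_lit 4) (nat_lit 5)) (nat_lit 32)
(Net.cons (mk (nat_lit 4) (nat_lit 8)) (nat_lit 256)
(Net.cons (mk (nat_lit 5) (nat_lit 8)) (nat_lit 224)
(Net.cons (mk (nat_lit 5) (nat_lit 4)) (nat_lit 16)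
(Net.cons (mk (nat_lit 5) (nat_lit 7)) (nat_lit 128)
(Net.cons (mk (nat_lit 6) (nat_lit 1)) (nat_lit 2)
(Net.cons (mk (nat_lit 6) (nat_lit 2)) (nat_lit 4)
(Net.cons (mk (nat_lit 7) (nat_lit 8)) (nat_lit 128)
(Net.cons (mk (nat_lit 7) (nat_lit 4)) (nat_lit 16)
(Net.cons (mk (nat_lit 7) (nat_lit 5)) (nat_lit 32)
(Net.cons (mk (nat_lit 8) (nat_lit 5)) (nat_lit 32)
(Net.cons (mk (nat_lit 8) (nat_lit 7)) (nat_lit 128)
(Net.cons (mk (nat_lit 10) (nat_lit 12)) (nat_lit 4096)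
(Net.cons (mk (nat_lit 10) (nat_lit 15)) (nat_lit 32768)
(Net.cons (mk (nat_lit 11) (nat_lit 12)) (nat_lit 4096)
(Net.cons (mk (nat_lit 11) (nat_lit 15)) (nat_lit 32768)
(Net.cons (mk (nat_lit 12) (nat_lit 15)) (nat_lit 28672)
(Net.cons (mk (nat_lit 12) (nat_lit 10)) (nat_lit 1024)
(Net.cons (mk (nat_lit 12) (nat_lit 11)) (nat_lit 2048)
(Net.cons (mk (nat_lit 13) (nat_lit 14)) (nat_lit 16384)
(Net.cons (mk (nat_lit 13) (nat_lit 17)) (nat_lit 131072)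
(Net.cons (mk (nat_lit 14) (nat_lit 17)) (nat_lit 114688)
(Net.cons (mk (nat_lit 14) (nat_lit 13)) (nat_lit 8192)
(Net.cons (mk (nat_lit 14) (nat_lit 16)) (nat_lit 65536)
(Net.cons (mk (nat_lit 15) (nat_lit 10)) (nat_lit 1024)
(Net.cons (mk (nat_lit 15) (nat_lit 11)) (nat_lit 2048)
(Net.cons (mk (nat_lit 16) (nat_lit 17)) (nat_lit 65536)
(Net.cons (mk (nat_lit 16) (nat_lit 13)) (nat_lit 8192)
(Net.cons (mk (nat_lit 16) (nat_lit 14)) (nat_lit 16384)
(Net.cons (mk (nat_lit 17) (nat_lit 14)) (nat_lit 16384)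
(Net.cons (mk (nat_lit 17) (nat_lit 16)) (nat_lit 65536)
Net.nil))))))))))))))))))))))))))))))))))))))

noncomputable def T : List Net := [n0, n1, n2, n3]

theorem ok : TOK 262144 T := TOK_of_ok (by decide +kernel)

/-- the rows of the four maps -/
def A : List (List Nat) := [[1, 1024, 2048, 4096, 8208, 16416, 32768, 65664, 131328, 512, 1026, 2052, 4104, 16, 32, 32832, 128, 256], [64, 128, 256, 1, 2, 4, 8, 8192, 16416, 32768, 65536, 131072, 512, 1024, 2048, 4096, 8208, 32], [1, 256, 16, 128, 8, 4, 32, 2, 64, 512, 131072, 8192, 65536, 4096, 2048, 16384, 1024, 32768], [1, 74, 76, 70, 304, 176, 14, 416, 400, 512, 37888, 38912, 35840, 155648, 90112, 7168, 212992, 204800]]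

/-- the sum of the planes selected by `a` -/
noncomputable def xs (a L : Nat) : Nat :=
  @Nat.rec (fun _ => Nat) (nat_lit 0)
    (fun l ih => @Bool.rec (fun _ => Nat) ih (Nat.xor (pl l) ih) (Nat.testBit a l)) L

theorem lin : ∀ x < 4, ∀ k < 18,
    Nat.beq (runW (nat_lit 1) T [x] (pl k)) (xs ((A.getD x []).getD k 0) 18) = true := by
  decide +kernel

def W : List (List Nat) := [[0], [1], [2], [3]]

def sch1 : List Nat := [1, 2, 0, 1, 2, 3, 1, 0, 1, 2, 1, 2, 1, 3, 1, 2, 0, 1, 2, 1, 0, 2, 1, 2, 3, 1, 2, 0, 2, 2]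

def sch2 : List Nat := [2, 0, 1, 2, 1, 0, 2, 1, 2, 3, 1, 2, 1, 0, 2, 1, 2, 3, 1, 0, 2, 1, 2, 1, 0, 2, 1, 2, 1]

noncomputable def S1 : Nat := grow T W sch1 (pt (nat_lit 1))

noncomputable def S2 : Nat := grow T W sch2 (pt (nat_lit 3))

theorem inv1 : invS T W S1 = true := by decide +kernel

theorem mem1' : Nat.testBit S1 1 = true := by decide +kernel

theorem lt1 : Nat.beq (Nat.shiftRight S1 (nat_lit 262144)) (nat_lit 0) = true := by decide +kernel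

theorem cnt1 : Nat.beq (popc (nat_lit 18) S1) (nat_lit 69768) = true := by decide +kernel

/-- the points with an odd number of non-zero coordinates -/
noncomputable def od (L : Nat) : Nat :=
  @Nat.rec (fun _ => Nat) (nat_lit 0)
    (fun l ih => Nat.xor (Nat.lor (pl l) (pl (Nat.add (nat_lit 9) l))) ih) L

theorem cov2 : Nat.beq (Nat.lor (Nat.lor (od 9) S2) (pt (nat_lit 0)))
    (ivl (nat_lit 0) (nat_lit 262144)) = true := by decide +kernel

end Cfsg.Agent.LeU.J3
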